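import Mathlib
import Groth.Prelude.Def_Cyc
import Groth.Agent.CycSeqLib.Family
import Groth.Agent.CycC1Lib.Pull
import Groth.Agent.CycLimLib.Gen

/-!
# Moving a cycle onto the generic points of the fibres

If every point of dimension `k + r` that is not generic in its fibre can be killed inside its fibre
by principal divisors, then every `(k + r)`-cycle is rationally equivalent to a pullback. The error
terms live over strict specializations in the base, so this is a well-founded recursion.
-/

set_option autoImplicit false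
set_option linter.style.haveILetI false

universe u

open AlgebraicGeometry CategoryTheory

noncomputable section

namespace CycAffLib

open CycLimLib (IsGen fibIdeal)
open CycSeqLib (Fam)

variable {X Y : Scheme.{u}} {δX : X → ℤ} {δY : Y → ℤ}

theorem wf_generization (hY : Cyc.IsSetup Y δY) : WellFounded fun a b : Y => a ⤳ b ∧ a ≠ b := by
  haveI := hY.1
  refine ⟨fun b₀ => ?_⟩
  obtain ⟨N, hN⟩ := EquidimLib.exists_stalk_dim_eq_nat b₀
  have hB : ∀ a, a ⤳ b₀ → δY a ≤ δY b₀ + N := fun a ha => by
    obtain ⟨n, hn⟩ := EquidimLib.exists_dimBetween_eq_nat ha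
    have h1 := EquidimLib.dimBetween_le_stalk a b₀
    rw [hn, hN] at h1
    have h2 : n ≤ N := by exact_mod_cast h1
    have := CycLimLib.delta_eq_add hY ha hn
    omega
  suffices ∀ m : ℕ, ∀ a : Y, a ⤳ b₀ → (δY b₀ + N - δY a).toNat = m →
      Acc (fun a b : Y => a ⤳ b ∧ a ≠ b) a from this _ b₀ specializes_rfl rfl
  intro m
  induction m using Nat.strong_induction_on with
  | _ m IH =>
    intro a ha hm
    refine ⟨_, fun a' h => IH _ ?_ a' (h.1.trans ha) rfl⟩
    have := (hY.2.2 a' a h.1 h.2).1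
    have := hB a' (h.1.trans ha)
    omega

/-- The point `x` is, inside its fibre, a sum of principal divisors supported in the fibre. -/
def Kill (f : X ⟶ Y) (δX : X → ℤ) (k : ℤ) (x : X) : Prop :=
  ∃ A : Fam X δX k, Finite A.I ∧ (∀ i, f (A.ξ i) = f x) ∧
    ∀ z, f z = f x → (z = x → A.sum z = 1) ∧ (z ≠ x → A.sum z = 0)

theorem exists_pull_ratEquiv (hX : Cyc.IsSetup X δX) (hY : Cyc.IsSetup Y δY) (f : X ⟶ Y)
    [LocallyOfFiniteType f] [QuasiCompact f] {r : ℕ} (hr : Cyc.HasRelDim f r)
    (hδ : Cyc.DeltaCompat f δX δY)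
    (hone : ∀ x, IsGen f x → Module.length (X.presheaf.stalk x) (X.presheaf.stalk x ⧸ fibIdeal f x) = 1)
    (huniq : ∀ a b, IsGen f a → IsGen f b → f a = f b → a = b) (k : ℤ)
    (hkill : ∀ x, δX x = k + r → δY (f x) ≠ k → Kill f δX (k + r) x)
    (β : AlgebraicCycle X ℤ) (hβ : β ∈ Cyc.Zk X δX (k + r)) :
    ∃ (α : AlgebraicCycle Y ℤ) (β' : AlgebraicCycle X ℤ), α ∈ Cyc.Zk Y δY k ∧
      ⇑β' = Cyc.pullFun f δX δY r ⇑α ∧ Cyc.RatEquiv δX (k + r) β β' := by
  classical
  haveI := hX.1
  haveI := hY.1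
  let P := {x : X // δX x = k + r ∧ δY (f x) ≠ k}
  choose A hAfin hAf hAsum using fun x : P => hkill x.1 x.2.1 x.2.2
  let d : P → X → ℤ := fun x => (A x).sum
  have hd : ∀ x w, d x w ≠ 0 → f x.1 ⤳ f w := fun x w h => by
    obtain ⟨i, hi⟩ : ∃ i, Cyc.divFun δX ((A x).ξ i) ((A x).f i) w ≠ 0 := by
      by_contra hc
      push Not at hc
      exact h (finsum_eq_zero_of_forall_eq_zero hc)
    rw [← hAf x i]
    exact Specializes.map (by_contra fun hn => hi (CycC1Lib.divFun_eq_zero_of_not_specializes hn _)) f.continuous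
  have hwf := InvImage.wf (fun w : X => f w) (wf_generization hY)
  let R : X → ℤ := hwf.fix fun w Rrec => β w - ∑ᶠ x : P,
    if h : f x.1 ⤳ f w ∧ f x.1 ≠ f w then Rrec x.1 h * d x w else 0
  have hR : ∀ w, R w = β w - ∑ᶠ x : P, if f x.1 ⤳ f w ∧ f x.1 ≠ f w then R x.1 * d x w else 0 := fun w => by
    refine (WellFounded.fix_eq hwf _ w).trans ?_
    simp only [dite_eq_ite]
    rfl
  have hcase : ∀ w, R w ≠ 0 → β w ≠ 0 ∨
      ∃ x : P, R x.1 ≠ 0 ∧ d x w ≠ 0 ∧ f x.1 ⤳ f w ∧ f x.1 ≠ f w := fun w hw => by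
    by_contra hc
    push Not at hc
    refine hw ?_
    rw [hR, hc.1, finsum_eq_zero_of_forall_eq_zero fun x => ?_, sub_zero]
    split_ifs with h
    · by_contra hne
      exact h.2 (hc.2 x (left_ne_zero_of_mul hne) (right_ne_zero_of_mul hne) h.1)
    · rfl
  have hRdelta : ∀ w, R w ≠ 0 → δX w = k + r := fun w hw => by
    rcases hcase w hw with h | ⟨x, -, h, -⟩
    · exact by_contra fun hne => h (hβ w hne)
    · exact (A x).sum_ne_zero_delta h
  have hlow : ∀ w, R w ≠ 0 → k ≤ δY (f w) := fun w hw => by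
    have := CycLimLib.delta_le f hδ hr w
    have := hRdelta w hw
    omega
  have hfin : ∀ V : Y.Opens, IsAffineOpen V → {w : X | f w ∈ V ∧ R w ≠ 0}.Finite := fun V hV => by
    have hK : IsCompact (f ⁻¹' (V : Set Y)) :=
      QuasiCompact.isCompact_preimage (f := f) _ V.isOpen hV.isCompact
    have hsupp : ∀ c : AlgebraicCycle X ℤ, (f ⁻¹' (V : Set Y) ∩ Function.support c).Finite := fun c =>
      LocallyFiniteSupport.finite_inter_support_of_isCompact
        (Function.locallyFinsupp.locallyFiniteSupport c) hK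
    obtain ⟨J, hJ⟩ := ((hsupp β).image fun w => δY (f w)).bddAbove
    have hle : ∀ w, f w ∈ V → R w ≠ 0 → δY (f w) ≤ J := fun w => by
      induction w using hwf.induction with
      | _ w IH =>
        intro hV' hw
        rcases hcase w hw with h | ⟨x, hx, -, h1, h2⟩
        · exact hJ ⟨w, ⟨hV', h⟩, rfl⟩
        · have := (hY.2.2 _ _ h1 h2).1
          have := IH x.1 ⟨h1, h2⟩ (h1.mem_open V.isOpen hV') hx
          omega
    have hT : ∀ n : ℕ, {w : X | f w ∈ V ∧ R w ≠ 0 ∧ J + 1 - n ≤ δY (f w)}.Finite := by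
      intro n
      induction n with
      | zero =>
        refine Set.finite_empty.subset fun w hw => ?_
        have := hle w hw.1 hw.2.1
        have := hw.2.2
        omega
      | succ n IH =>
        refine ((hsupp β).union ((IH.preimage (f := fun x : P => x.1) Subtype.val_injective.injOn).biUnion
          fun x _ => hsupp ((A x).cyc hX))).subset ?_
        rintro w ⟨h1, h2, h3⟩
        rcases hcase w h2 with h | ⟨x, hx, hxd, hs, hne⟩
        · exact Or.inl ⟨h1, h⟩
        · refine Or.inr (Set.mem_biUnion (x := x) ⟨hs.mem_open V.isOpen h1, hx, ?_⟩ ⟨h1, hxd⟩)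
          have := (hY.2.2 _ _ hs hne).1
          show _ ≤ δY (f x.1)
          omega
    refine (hT (J + 1 - k).toNat).subset fun w hw => ⟨hw.1, hw.2, ?_⟩
    have := hlow w hw.2
    omega
  have hfinP : ∀ V : Y.Opens, IsAffineOpen V → {x : P | f x.1 ∈ V ∧ R x.1 ≠ 0}.Finite := fun V hV =>
    ((hfin V hV).preimage (f := fun x : P => x.1) Subtype.val_injective.injOn).subset fun x hx => hx
  -- the family
  let I := Σ x : {x : P // R x.1 ≠ 0}, (A x.1).I
  have hloc : ∀ z : X, ∃ U : Set X, IsOpen U ∧ z ∈ U ∧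
      {s : I | (closure {(A s.1.1).ξ s.2} ∩ U).Nonempty}.Finite := fun z => by
    obtain ⟨V, hV, hzV, -⟩ := exists_isAffineOpen_mem_and_subset (X := Y) (x := f z) (U := ⊤) trivial
    refine ⟨f ⁻¹' V, V.isOpen.preimage f.continuous, hzV,
      (((hfinP V hV).preimage (f := fun x : {x : P // R x.1 ≠ 0} => x.1) Subtype.val_injective.injOn).biUnion
        fun x _ => haveI := hAfin x.1; Set.finite_range (Sigma.mk x)).subset ?_⟩
    rintro ⟨x, i⟩ ⟨v, hv, hvU⟩
    refine Set.mem_biUnion (x := x) ⟨?_, x.2⟩ ⟨i, rfl⟩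
    rw [← hAf x.1 i]
    exact (specializes_iff_mem_closure.2 hv).mem_open (V.isOpen.preimage f.continuous) hvU
  let B : Fam X δX (k + r) :=
    { I := I
      ξ := fun s => (A s.1.1).ξ s.2
      f := fun s => (A s.1.1).f s.2 ^ R s.1.1.1
      delta := fun s => (A s.1.1).delta s.2
      ne_zero := fun s => zpow_ne_zero _ ((A s.1.1).ne_zero s.2)
      locFin := hloc }
  have hsum : ∀ w, β w - B.sum w = if δX w = k + r ∧ δY (f w) ≠ k then 0 else R w := fun w => by
    obtain ⟨V, hV, hwV, -⟩ := exists_isAffineOpen_mem_and_subset (X := Y) (x := f w) (U := ⊤) trivial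
    let F := (hfinP V hV).toFinset
    have hF : ∀ x : P, R x.1 * d x w ≠ 0 → x ∈ F := fun x h => (hfinP V hV).mem_toFinset.2
      ⟨(hd x w (right_ne_zero_of_mul h)).mem_open V.isOpen hwV, left_ne_zero_of_mul h⟩
    have h1 : B.sum w = ∑ x ∈ F, R x.1 * d x w := by
      haveI : ∀ x : P, Finite (A x).I := hAfin
      haveI : ∀ x : P, Fintype (A x).I := fun x => Fintype.ofFinite _
      let g : I → ℤ := fun s => R s.1.1.1 * Cyc.divFun δX ((A s.1.1).ξ s.2) ((A s.1.1).f s.2) w
      have hg : B.sum w = ∑ᶠ s, g s := finsum_congr fun s => CycC1Lib.divFun_zpow hX ((A s.1.1).ne_zero s.2) _ _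
      have hsub : Function.support g ⊆ ↑((F.subtype fun x => R x.1 ≠ 0).sigma fun x => (Finset.univ : Finset (A x.1).I)) := by
        rintro ⟨x, i⟩ h
        rw [Finset.mem_coe, Finset.mem_sigma, Finset.mem_subtype]
        refine ⟨(hfinP V hV).mem_toFinset.2 ⟨?_, x.2⟩, Finset.mem_univ _⟩
        rw [← hAf x.1 i]
        refine Specializes.mem_open (Specializes.map ?_ f.continuous) V.isOpen hwV
        exact by_contra fun hn => right_ne_zero_of_mul h (CycC1Lib.divFun_eq_zero_of_not_specializes hn _)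
      rw [hg, finsum_eq_sum_of_support_subset g hsub, Finset.sum_sigma]
      refine (Finset.sum_congr rfl fun x _ => (show _ = R x.1.1 * d x.1 w by
        show ∑ i, R x.1.1 * _ = _
        rw [← Finset.mul_sum, ← finsum_eq_sum_of_fintype]
        rfl)).trans ?_
      rw [Finset.sum_subtype_eq_sum_filter (fun x : P => R x.1 * d x w),
        Finset.filter_eq_self.2 fun x hx => ((hfinP V hV).mem_toFinset.1 hx).2]
    have h2 : (∑ᶠ x : P, if f x.1 ⤳ f w ∧ f x.1 ≠ f w then R x.1 * d x w else 0) =
        ∑ x ∈ F, if f x.1 ⤳ f w ∧ f x.1 ≠ f w then R x.1 * d x w else 0 := by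
      refine finsum_eq_sum_of_support_subset _ fun x hx => hF x ?_
      simp only [Function.mem_support] at hx
      split_ifs at hx
      · exact hx
      · exact absurd rfl hx
    have h3 : ∀ x : P, R x.1 * d x w =
        (if f x.1 ⤳ f w ∧ f x.1 ≠ f w then R x.1 * d x w else 0) + (if x.1 = w then R w else 0) := fun x => by
      by_cases he : f x.1 = f w
      · rw [if_neg fun h => h.2 he, zero_add]
        obtain ⟨ha, hb⟩ := hAsum x w he.symm
        split_ifs with hxw
        · rw [show d x w = 1 from ha hxw.symm, mul_one, hxw]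
        · rw [show d x w = 0 from hb fun e => hxw e.symm, mul_zero]
      · rw [if_neg (fun e : x.1 = w => he (congrArg f.base e)), add_zero]
        split_ifs with h
        · rfl
        · rw [show d x w = 0 from by_contra fun hne => h ⟨hd x w hne, he⟩, mul_zero]
    have h4 : (∑ x ∈ F, if x.1 = w then R w else 0) = if δX w = k + r ∧ δY (f w) ≠ k then R w else 0 := by
      by_cases hw : δX w = k + r ∧ δY (f w) ≠ k
      · rw [if_pos hw, Finset.sum_eq_single (⟨w, hw⟩ : P) (fun x _ hne => if_neg fun e => hne (Subtype.ext e))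
          fun hn => ?_, if_pos rfl]
        rw [if_pos rfl]
        by_contra hne
        exact hn ((hfinP V hV).mem_toFinset.2 ⟨hwV, hne⟩)
      · rw [if_neg hw, Finset.sum_eq_zero fun x _ => if_neg fun (e : x.1 = w) => hw (e ▸ x.2)]
    rw [h1, Finset.sum_congr rfl fun x _ => h3 x, Finset.sum_add_distrib, h4, ← h2]
    have := hR w
    split_ifs <;> omega
  -- the cycle on the base
  let a : Y → ℤ := fun η => if h : δY η = k ∧ ∃ w, f w = η ∧ IsGen f w then R h.2.choose else 0
  let α : AlgebraicCycle Y ℤ :=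
    { toFun := a
      supportWithinDomain' := by simp
      supportLocallyFiniteWithinDomain' := fun y _ => by
        obtain ⟨V, hV, hyV, -⟩ := exists_isAffineOpen_mem_and_subset (X := Y) (x := y) (U := ⊤) trivial
        refine ⟨V, V.isOpen.mem_nhds hyV, ((hfin V hV).image f).subset ?_⟩
        rintro η ⟨hηV, hη⟩
        have hη' : a η ≠ 0 := hη
        by_cases h : δY η = k ∧ ∃ w, f w = η ∧ IsGen f w
        · refine ⟨h.2.choose, ⟨?_, ?_⟩, h.2.choose_spec.1⟩
          · rw [h.2.choose_spec.1]; exact hηV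
          · simpa only [a, dif_pos h] using hη'
        · exact absurd (dif_neg h) hη' }
  have hgen : ∀ x, IsGen f x → δX x = δY (f x) + (r : ℤ) := fun x hx => CycLimLib.delta_eq_of_gen f hδ hr hx
  refine ⟨α, CycC1Lib.pullCyc f hX hgen α, fun η hη => dif_neg fun h => hη h.1, rfl, ?_⟩
  refine B.ratEquivZero fun w => ?_
  have hw' := hsum w
  show β w - Cyc.pullFun f δX δY r a w = B.sum w
  have hval : Cyc.pullFun f δX δY r a w = if δX w = k + r ∧ δY (f w) ≠ k then 0 else R w := by
    simp only [Cyc.pullFun]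
    by_cases hw : δX w = δY (f w) + (r : ℤ)
    · rw [if_pos hw]
      have hg := CycLimLib.isGen_of_relDim f hδ hr hw
      rw [show Module.length (X.presheaf.stalk w) _ = 1 from hone w hg, ENat.toNat_one, Nat.cast_one, mul_one]
      by_cases hk : δY (f w) = k
      · have h : δY (f w) = k ∧ ∃ v, f v = f w ∧ IsGen f v := ⟨hk, w, rfl, hg⟩
        rw [if_neg fun hh => hh.2 hk]
        simp only [a, dif_pos h]
        rw [huniq _ _ h.2.choose_spec.2 hg h.2.choose_spec.1]
      · rw [if_neg fun hh => hk (by omega)]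
        simp only [a]
        rw [dif_neg fun h => hk h.1]
        by_contra hne
        exact hk (by have := hRdelta w (Ne.symm hne); omega)
    · rw [if_neg hw]
      split_ifs with hh
      · rfl
      · by_contra hne
        have h1 := hRdelta w (Ne.symm hne)
        exact hh ⟨h1, fun h2 => hw (by omega)⟩
  rw [hval]
  omega

end CycAffLib

end
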