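import Mathlib
import Groth.Prelude.Def_Cyc
import Groth.Agent.CycAffLib.Recursion
import Groth.Agent.CycBivLib.Setup
import Groth.Agent.CycBivLib.Birational
import Groth.Agent.CycPushLib.BaseChange
import Groth.Agent.S1405

/-!
# Killing points inside the fibres
-/

set_option autoImplicit false
set_option linter.style.haveILetI false
set_option linter.unusedSectionVars false

universe u

open AlgebraicGeometry CategoryTheory CategoryTheory.Limits IsLocalRing

noncomputable section

namespace CycAffLib

open CycLimLib (IsGen fibIdeal)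
open CycBivLib (pointCycle)
open CycDivLib (gpull)

variable {X Y : Scheme.{u}} {δX : X → ℤ} {δY : Y → ℤ}

/-- The dimension function induced along a morphism locally of finite type. -/
theorem exists_deltaCompat (f : X ⟶ Y) [LocallyOfFiniteType f] (δY : Y → ℤ) :
    ∃ δX : X → ℤ, Cyc.DeltaCompat f δX δY := by
  refine ⟨fun p => δY (f p) + (Cardinal.toNat (Dual3.resTrdeg f p) : ℕ),
    fun p => ⟨Cardinal.toNat (Dual3.resTrdeg f p), ?_, rfl⟩⟩
  letI := (f.residueFieldMap p).hom.toAlgebra
  haveI : Algebra.EssFiniteType (Y.residueField (f p)) (X.residueField p) :=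
    Groth.Agent.S1405.essFiniteType_residueFieldMap f p
  exact (Cardinal.cast_toNat_of_lt_aleph0 (trdeg_lt_aleph0 (Y.residueField (f p)) (X.residueField p))).symm

variable {F : Scheme.{u}} {j : F ⟶ X} {f : X ⟶ Y} {η : Y} {s : F ⟶ Spec (Y.residueField η)}

theorem range_of_isPullback (h : IsPullback j s f (Y.fromSpecResidueField η)) : Set.range j = f ⁻¹' {η} := by
  rw [← f.range_fiberι η, show j = h.isoPullback.hom ≫ f.fiberι η from h.isoPullback_hom_fst.symm]
  show Set.range (⇑(f.fiberι η) ∘ ⇑h.isoPullback.hom) = _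
  exact h.isoPullback.hom.homeomorph.surjective.range_comp _

theorem isPreimmersion_of_isPullback (h : IsPullback j s f (Y.fromSpecResidueField η)) : IsPreimmersion j :=
  MorphismProperty.of_isPullback h.flip (inferInstance : IsPreimmersion (Y.fromSpecResidueField η))

theorem fibre_deltaCompat (h : IsPullback j s f (Y.fromSpecResidueField η)) (hδ : Cyc.DeltaCompat f δX δY) :
    Cyc.DeltaCompat s (fun w => δX (j w)) (fun _ => δY η) := fun w => by
  haveI := isPreimmersion_of_isPullback h
  obtain ⟨n, hn, hn'⟩ := hδ (j w)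
  refine ⟨n, ?_, ?_⟩
  · have e := AlgSpLib.resTrdeg_comp j f w
    rw [h.w, AlgSpLib.resTrdeg_comp s (Y.fromSpecResidueField η) w, CycPushLib.trdeg_preimmersion_left j,
      CycPushLib.trdeg_preimmersion_left (Y.fromSpecResidueField η), add_zero, zero_add] at e
    exact e.trans hn
  · rw [show f (j w) = η from (range_of_isPullback h).le ⟨w, rfl⟩] at hn'
    exact hn'

/-- A fibre, as a preimmersion, inherits the setup. -/
theorem fibre_setup (hX : Cyc.IsSetup X δX) (h : IsPullback j s f (Y.fromSpecResidueField η))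
    [IsLocallyNoetherian F] : Cyc.IsSetup F (fun w => δX (j w)) := by
  haveI := isPreimmersion_of_isPullback h
  refine ⟨inferInstance, fun w => ?_, fun a b hab hne => ?_⟩
  · letI := (j.stalkMap w).hom.toAlgebra
    haveI : Algebra.FiniteType (X.presheaf.stalk (j w)) (F.presheaf.stalk w) :=
      RingHom.FiniteType.of_surjective _ (j.stalkMap_surjective w)
    exact CatLib.isUniversallyCatenary_of_finiteType (X.presheaf.stalk (j w)) (F.presheaf.stalk w) (hX.2.1 (j w))
  · have hfab : ∀ v, f (j v) = η := fun v => (range_of_isPullback h).le ⟨v, rfl⟩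
    obtain ⟨h1, h2⟩ := hX.2.2 (j a) (j b) (hab.map j.continuous) fun e => hne (j.isEmbedding.injective e)
    refine ⟨h1, fun himm => h2 fun z haz hzb => ?_⟩
    have hz : f z = η := ((haz.map f.continuous).antisymm
      ((hzb.map f.continuous).trans (specializes_of_eq ((hfab b).trans (hfab a).symm)))).eq.symm.trans (hfab a)
    obtain ⟨v, rfl⟩ := (range_of_isPullback h).ge hz
    have hi := j.isEmbedding.isInducing
    exact (himm v (hi.specializes_iff.1 haz) (hi.specializes_iff.1 hzb)).imp (congrArg j) (congrArg j)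

theorem divFun_preimmersion {W : Scheme.{u}} (i : W ⟶ X) [IsPreimmersion i] (hX : Cyc.IsSetup X δX)
    (hW : Cyc.IsSetup W fun w => δX (i w)) (ζ w : W) {g : X.residueField (i ζ)} (hg : g ≠ 0) :
    Cyc.divFun δX (i ζ) g (i w) = Cyc.divFun (fun w => δX (i w)) ζ (i.residueFieldMap ζ g) w := by
  haveI := hX.1
  haveI := hW.1
  simp only [Cyc.divFun]
  have hiff : ζ ⤳ w ↔ i ζ ⤳ i w := i.isEmbedding.isInducing.specializes_iff.symm
  by_cases h : i ζ ⤳ i w ∧ δX (i w) + 1 = δX (i ζ)
  · rw [dif_pos h, dif_pos ⟨hiff.2 h.1, h.2⟩]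
    exact CycPushLib.ordAt_closedImmersion i (hiff.2 h.1) h.1
      (CycPushLib.dimBetween_le_one_of_drop hX h.1 h.2)
      (CycPushLib.dimBetween_le_one_of_drop hW (hiff.2 h.1) h.2) hg
  · rw [dif_neg h, dif_neg fun h' => h ⟨hiff.1 h'.1, h'.2⟩]

/-- A point that is rationally zero in a quasi-compact fibre can be killed. -/
theorem kill_of_fibre (hX : Cyc.IsSetup X δX) (h : IsPullback j s f (Y.fromSpecResidueField η))
    [IsLocallyNoetherian F] [CompactSpace F] {k : ℤ} (w₀ : F)
    (hw : Cyc.RatEquivZero (fun w => δX (j w)) k (pointCycle w₀ 1)) : Kill f δX k (j w₀) := by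
  classical
  haveI := isPreimmersion_of_isPullback h
  have hF := fibre_setup hX h
  obtain ⟨A, hA⟩ := CycSeqLib.Fam.exists_of_ratEquivZero hw
  have hfin : Finite A.I := by
    choose U hUo hU hUf using A.locFin
    obtain ⟨t, ht⟩ := isCompact_univ.elim_finite_subcover U hUo fun v _ => Set.mem_iUnion.2 ⟨v, hU v⟩
    refine Set.finite_univ_iff.1 ((t.finite_toSet.biUnion fun v _ => hUf v).subset fun i _ => ?_)
    obtain ⟨v, hv, hiv⟩ := Set.mem_iUnion₂.1 (ht (Set.mem_univ (A.ξ i)))
    exact Set.mem_biUnion hv ⟨A.ξ i, subset_closure rfl, hiv⟩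
  choose g hg using fun i => (CycPushLib.residueFieldMap_bijective j (A.ξ i)).2 (A.f i)
  have hg0 : ∀ i, g i ≠ 0 := fun i e => A.ne_zero i (by rw [← hg i, e, map_zero])
  refine ⟨⟨A.I, fun i => j (A.ξ i), g, A.delta, hg0, fun x => ?_⟩, hfin, fun i => ?_, fun z hz => ?_⟩
  · haveI := hfin
    exact ⟨Set.univ, isOpen_univ, trivial, Set.toFinite _⟩
  · exact ((range_of_isPullback h).le ⟨A.ξ i, rfl⟩).trans ((range_of_isPullback h).le ⟨w₀, rfl⟩).symm
  · have hz' : f z = η := hz.trans ((range_of_isPullback h).le ⟨w₀, rfl⟩)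
    obtain ⟨v, rfl⟩ := (range_of_isPullback h).ge hz'
    have hsum : CycSeqLib.Fam.sum ⟨A.I, fun i => j (A.ξ i), g, A.delta, hg0, fun x => by
        haveI := hfin
        exact ⟨Set.univ, isOpen_univ, trivial, Set.toFinite _⟩⟩ (j v) = pointCycle w₀ 1 v := by
      rw [hA]
      refine finsum_congr fun i => ?_
      rw [← hg i]
      exact divFun_preimmersion j hX hF (A.ξ i) v (hg0 i)
    refine ⟨fun e => hsum.trans ?_, fun e => hsum.trans ?_⟩
    · rw [j.isEmbedding.injective e, CycBivLib.pointCycle_self]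
    · exact CycBivLib.pointCycle_ne 1 fun e' => e (congrArg j e')

theorem isIntegral_fiber (h : IsPullback j s f (Y.fromSpecResidueField η)) [IsIntegral F] :
    IsIntegral (f.fiber η) :=
  haveI : Nonempty ↥(pullback f (Y.fromSpecResidueField η)) := ⟨h.isoPullback.hom (genericPoint F)⟩
  haveI : IsIntegral (pullback f (Y.fromSpecResidueField η)) := isIntegral_of_isOpenImmersion h.isoPullback.inv
  this

/-- The multiplicity of an integral fibre is one. -/
theorem length_eq_one_of_integral (f : X ⟶ Y) {x : X} (hint : IsIntegral (f.fiber (f x)))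
    (hx : IsGen f x) : Module.length (X.presheaf.stalk x) (X.presheaf.stalk x ⧸ fibIdeal f x) = 1 := by
  obtain ⟨z, hz⟩ : x ∈ Set.range (f.fiberι (f x)) := (f.range_fiberι (f x)).ge rfl
  have hg : f.fiberι (f x) (genericPoint ↥(f.fiber (f x))) = x := hx _ ((f.range_fiberι (f x)).le ⟨_, rfl⟩)
    (((genericPoint_specializes z).map (f.fiberι (f x)).continuous).trans (specializes_of_eq hz))
  have hzg : z = genericPoint ↥(f.fiber (f x)) := (f.fiberι (f x)).isEmbedding.injective (hz.trans hg.symm)
  have key : ∀ (w : f.fiber (f x)), w = genericPoint ↥(f.fiber (f x)) →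
      Module.length (X.presheaf.stalk (f.fiberι (f x) w))
        (X.presheaf.stalk (f.fiberι (f x) w) ⧸ fibIdeal f (f.fiberι (f x) w)) = 1 := by
    intro w hw
    obtain ⟨hsurj, hker⟩ := Groth.Agent.S9501.result f (f x) w
    haveI : IsSimpleModule (X.presheaf.stalk (f.fiberι (f x) w))
        (X.presheaf.stalk (f.fiberι (f x) w) ⧸ fibIdeal f (f.fiberι (f x) w)) := by
      rw [isSimpleModule_iff_isCoatom, ← Ideal.isMaximal_def]
      have hf : IsField ((f.fiber (f x)).presheaf.stalk w) := by
        subst hw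
        exact Field.toIsField (f.fiber (f x)).functionField
      letI := hf.toField
      have := RingHom.ker_isMaximal_of_surjective ((f.fiberι (f x)).stalkMap w).hom hsurj
      rwa [hker] at this
    exact Module.length_eq_one _ _
  have := key z hzg
  rwa [hz] at this

/-- If the fibres are integral and all their non-generic points are rationally zero in them, every
cycle is rationally equivalent to a pullback. -/
theorem exists_pull_of_fibres (hX : Cyc.IsSetup X δX) (hY : Cyc.IsSetup Y δY) (f : X ⟶ Y)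
    [LocallyOfFiniteType f] [QuasiCompact f] {r : ℕ} (hr : Cyc.HasRelDim f r)
    (hδ : Cyc.DeltaCompat f δX δY)
    (hfib : ∀ η : Y, ∃ (F : Scheme.{u}) (j : F ⟶ X) (s : F ⟶ Spec (Y.residueField η)),
      IsPullback j s f (Y.fromSpecResidueField η) ∧ IsIntegral F ∧
      ∀ w : F, δX (j w) < δY η + r →
        Cyc.RatEquivZero (fun v => δX (j v)) (δX (j w)) (pointCycle w 1))
    (k : ℤ) (β : AlgebraicCycle X ℤ) (hβ : β ∈ Cyc.Zk X δX (k + r)) :
    ∃ (α : AlgebraicCycle Y ℤ) (β' : AlgebraicCycle X ℤ), α ∈ Cyc.Zk Y δY k ∧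
      ⇑β' = Cyc.pullFun f δX δY r ⇑α ∧ Cyc.RatEquiv δX (k + r) β β' := by
  refine exists_pull_ratEquiv hX hY f hr hδ (fun x hx => ?_) (fun a b ha hb hab => ?_) k (fun x hx hk => ?_) β hβ
  · obtain ⟨F, j, s, h, hF, -⟩ := hfib (f x)
    exact length_eq_one_of_integral f (isIntegral_fiber h) hx
  · obtain ⟨F, j, s, h, hF, -⟩ := hfib (f a)
    have hgen : ∀ c, IsGen f c → f c = f a → c = j (genericPoint F) := fun c hc he => by
      obtain ⟨v, rfl⟩ := (range_of_isPullback h).ge he
      exact (hc _ (((range_of_isPullback h).le ⟨_, rfl⟩).trans he.symm)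
        ((genericPoint_specializes v).map j.continuous)).symm
    rw [hgen a ha rfl, hgen b hb hab.symm]
  · obtain ⟨F, j, s, h, hF, h0⟩ := hfib (f x)
    obtain ⟨w, hw⟩ := (range_of_isPullback h).ge (rfl : f x = f x)
    haveI : LocallyOfFiniteType s := MorphismProperty.of_isPullback h (inferInstance : LocallyOfFiniteType f)
    haveI : QuasiCompact s := MorphismProperty.of_isPullback h (inferInstance : QuasiCompact f)
    haveI : IsLocallyNoetherian F := LocallyOfFiniteType.isLocallyNoetherian s
    haveI : CompactSpace F := QuasiCompact.compactSpace_of_compactSpace s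
    have hlt : δX (j w) < δY (f x) + r := by
      have := CycLimLib.delta_le f hδ hr x
      have hne : δX x ≠ δY (f x) + r := fun e => hk (by omega)
      rw [hw]
      omega
    have := kill_of_fibre hX h w (h0 w hlt)
    rwa [hw, hx] at this

/-- The relative dimension of a morphism with integral fibres of dimension `r`. -/
theorem hasRelDim_of_fibres (f : X ⟶ Y) (r : ℕ)
    (hfib : ∀ η : Y, ∃ (F : Scheme.{u}) (j : F ⟶ X) (s : F ⟶ Spec (Y.residueField η)),
      IsPullback j s f (Y.fromSpecResidueField η) ∧ IsIntegral F ∧ topologicalKrullDim F = r) :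
    Cyc.HasRelDim f r := by
  intro η T hT
  obtain ⟨F, j, s, h, hF, hdim⟩ := hfib η
  haveI := isIntegral_fiber h
  rw [irreducibleComponents_eq_singleton, Set.mem_singleton_iff] at hT
  subst hT
  rw [← hdim, IsHomeomorph.topologicalKrullDim_eq _ (Homeomorph.Set.univ ↥(f.fiber η)).isHomeomorph]
  exact (IsHomeomorph.topologicalKrullDim_eq _ h.isoPullback.hom.homeomorph.isHomeomorph).symm

end CycAffLib

end
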