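import Mathlib
import Groth.Prelude.Def_Cyc
import Groth.Agent.CycAffLib.Fibre
import Groth.Agent.S1856
import Groth.Agent.CatLib.Univ
import Groth.Agent.CycPushLib.Local

/-!
# Cycles on affine space over a field
-/

set_option autoImplicit false
set_option linter.style.haveILetI false
set_option linter.unusedSectionVars false

universe u

open AlgebraicGeometry CategoryTheory CategoryTheory.Limits IsLocalRing

noncomputable section

namespace CycAffLib

attribute [local instance] Polynomial.algebra

open CycBivLib (pointCycle)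

/-- Every dimension function on a point is allowed. -/
theorem isSetup_field_const {K : CommRingCat.{u}} (hK : IsField K) (c : ℤ) :
    Cyc.IsSetup (Spec K) (fun _ => c) := by
  letI := hK.toField
  refine ⟨inferInstance, fun y => ?_, fun a b _ hne =>
    absurd (Subsingleton.elim (α := PrimeSpectrum K) a b) hne⟩
  have hk : CAlg.IsUniversallyCatenary K :=
    CatLib.isUniversallyCatenary_of_isCMRing CatLib.isCMRing_of_isRegularRing
  let A : CommRingCat.{u} := (Spec.structureSheaf K).presheaf.stalk y
  haveI : IsLocalization.AtPrime A y.asIdeal := StructureSheaf.IsLocalization.to_stalk K y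
  have hsurj : Function.Surjective (algebraMap K A) :=
    IsField.localization_map_bijective (M := y.asIdeal.primeCompl)
      (fun h => h (Ideal.zero_mem _)) hK |>.2
  haveI : Algebra.FiniteType K A := Algebra.FiniteType.of_surjective (Algebra.ofId K A) hsurj
  exact CatLib.isUniversallyCatenary_of_finiteType K A hk

/-- A point other than the generic one of the affine line is a principal divisor. -/
theorem polynomial_point_zero {κ : Type u} [Field κ] {δ : Spec (CommRingCat.of (Polynomial κ)) → ℤ}
    (hX : Cyc.IsSetup (Spec (CommRingCat.of (Polynomial κ))) δ) (w : Spec (CommRingCat.of (Polynomial κ)))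
    (hw : w ≠ genericPoint ↥(Spec (CommRingCat.of (Polynomial κ)))) :
    Cyc.RatEquivZero δ (δ w) (pointCycle w 1) := by
  classical
  haveI := hX.1
  let P := CommRingCat.of (Polynomial κ)
  let X := Spec P
  let ξ : X := genericPoint ↥X
  have hmax : ∀ z : X, z ≠ ξ → z.asIdeal.IsMaximal := fun z hz =>
    z.isPrime.isMaximal fun h => hz ((PrimeSpectrum.ext h : z = (⊥ : PrimeSpectrum P)).trans (genericPoint_eq_bot_of_affine P).symm)
  have himm : ∀ z : X, z ≠ ξ → δ z + 1 = δ ξ := fun z hz =>
    ((hX.2.2 ξ z (genericPoint_specializes z) (Ne.symm hz)).2 fun v _ hvz => by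
      by_cases hv : v = ξ
      · exact Or.inl hv
      · exact Or.inr (PrimeSpectrum.ext ((hmax v hv).eq_of_le z.isPrime.ne_top
          ((PrimeSpectrum.le_iff_specializes v z).2 hvz)))).symm
  haveI : w.asIdeal.IsPrincipal := IsPrincipalIdealRing.principal _
  let h : P := Submodule.IsPrincipal.generator w.asIdeal
  have hspan : Ideal.span {h} = w.asIdeal := Ideal.span_singleton_generator w.asIdeal
  have hh : h ≠ 0 := fun e => hw ((PrimeSpectrum.ext (show w.asIdeal = ⊥ by
    rw [← hspan, e, Ideal.span_singleton_eq_bot]) : w = (⊥ : PrimeSpectrum P)).trans (genericPoint_eq_bot_of_affine P).symm)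
  let φ : ∀ z : X, P ⟶ X.presheaf.stalk z := fun z => (Scheme.ΓSpecIso P).inv ≫ X.presheaf.germ ⊤ z trivial
  let g : X.residueField ξ := X.evaluation ⊤ ξ trivial ((Scheme.ΓSpecIso P).inv h)
  have hspec : ∀ z : X, Cyc.specMap z ξ (genericPoint_specializes z) (φ z h) = g := fun z =>
    CycPushLib.specMap_germ (genericPoint_specializes z) (U := ⊤) trivial trivial _
  let alg : ∀ z : X, Algebra P (X.presheaf.stalk z) := fun z => (φ z).hom.toAlgebra
  have hloc : ∀ z : X, @IsLocalization.AtPrime P _ (X.presheaf.stalk z) _ (alg z) z.asIdeal z.isPrime :=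
    fun z => StructureSheaf.IsLocalization.to_stalk P z
  have hprime : ∀ z : X, (CycDivLib.primeOf (genericPoint_specializes z)).asIdeal = ⊥ := fun z => by
    let Q : PrimeSpectrum (X.presheaf.stalk z) := ⟨⊥, Ideal.isPrime_bot⟩
    have h1 := EquidimLib.specializes_stalkPt (x := z)
      (p := Q) (q := CycDivLib.primeOf (genericPoint_specializes z)) bot_le
    rw [CycDivLib.stalkPt_primeOf] at h1
    have h2 := (h1.antisymm (genericPoint_specializes _)).eq
    rw [← CycDivLib.stalkPt_primeOf (genericPoint_specializes z)] at h2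
    rw [← EquidimLib.stalkPt_injective z h2]
  have hg : g ≠ 0 := fun e => by
    have h1 := (CycDivLib.specMap_eq_zero_iff (genericPoint_specializes w) (φ w h)).1 ((hspec w).trans e)
    rw [hprime, Ideal.mem_bot] at h1
    letI := alg w
    haveI := hloc w
    exact hh (IsLocalization.injective (M := w.asIdeal.primeCompl) _
      (fun x hx => mem_nonZeroDivisors_of_ne_zero fun e => hx (by rw [e]; exact Ideal.zero_mem _))
      (h1.trans (map_zero _).symm))
  refine ⟨PUnit, fun _ => ξ, fun _ => g, fun _ => ?_, fun _ => hg,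
    fun x => ⟨Set.univ, isOpen_univ, trivial, Set.toFinite _⟩, fun z => ?_⟩
  · exact (himm w hw).symm
  rw [finsum_unique]
  by_cases hz : z = ξ
  · subst hz
    rw [CycBivLib.pointCycle_ne 1 (Ne.symm hw), Cyc.divFun]
    rw [dif_neg]
    rintro ⟨-, hd⟩
    have hd' : δ ξ + 1 = δ ξ := hd
    omega
  have hd := CycPushLib.dimBetween_le_one_of_drop hX (genericPoint_specializes z) (himm z hz)
  rw [Cyc.divFun, dif_pos ⟨genericPoint_specializes z, himm z hz⟩, ← hspec z,
    CycDivLib.ordAt_specMap (genericPoint_specializes z) hd (by rw [hspec]; exact hg), hprime, bot_sup_eq]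
  letI := alg z
  haveI := hloc z
  by_cases hzw : z = w
  · subst hzw
    rw [CycBivLib.pointCycle_self]
    haveI : IsSimpleModule (X.presheaf.stalk z) (X.presheaf.stalk z ⧸ Ideal.span {φ z h}) := by
      rw [isSimpleModule_iff_isCoatom, ← Ideal.isMaximal_def,
        show Ideal.span {φ z h} = Ideal.map (algebraMap P (X.presheaf.stalk z)) (Ideal.span {h}) by
            rw [Ideal.map_span, Set.image_singleton]; rfl,
        hspan, IsLocalization.AtPrime.map_eq_maximalIdeal z.asIdeal (X.presheaf.stalk z)]
      exact maximalIdeal.isMaximal _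
    rw [Module.length_eq_one]
    rfl
  · have hu : IsUnit (φ z h) := by
      exact IsLocalization.map_units (M := z.asIdeal.primeCompl) _ ⟨h, fun hmem => hzw (PrimeSpectrum.ext
        ((hmax w hw).eq_of_le z.isPrime.ne_top
          (hspan ▸ (Ideal.span_singleton_le_iff_mem _).2 hmem)).symm)⟩
    haveI : Subsingleton (X.presheaf.stalk z ⧸ Ideal.span {φ z h}) :=
      Ideal.Quotient.subsingleton_iff.2 (Ideal.span_singleton_eq_top.2 hu)
    rw [CycBivLib.pointCycle_ne 1 hzw, Module.length_eq_zero]
    rfl

/-- On affine `r`-space over a field with the point of dimension `c`, dimensions are at most `c + r`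
and all cycles of smaller dimension are rationally zero. -/
def AffZero (r : ℕ) : Prop :=
  ∀ (K : Type u) [Field K] (A : Type u) [CommRing A] [Algebra K A] (_ : A ≃ₐ[K] MvPolynomial (Fin r) K)
    (c : ℤ) (δ : Spec (CommRingCat.of A) → ℤ),
    Cyc.DeltaCompat (Spec.map (CommRingCat.ofHom (algebraMap K A))) δ (fun _ => c) →
    (∀ x, δ x ≤ c + r) ∧
      ∀ d, d < c + r → ∀ α ∈ Cyc.Zk (Spec (CommRingCat.of A)) δ d, Cyc.RatEquivZero δ d α

theorem isGen_generic {X Y F : Scheme.{u}} {j : F ⟶ X} {f : X ⟶ Y} {η : Y}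
    {s : F ⟶ Spec (Y.residueField η)} (h : IsPullback j s f (Y.fromSpecResidueField η)) [IsIntegral F] :
    CycLimLib.IsGen f (j (genericPoint F)) := by
  haveI := isPreimmersion_of_isPullback h
  intro y hy hys
  obtain ⟨v, rfl⟩ := (range_of_isPullback h).ge (hy.trans ((range_of_isPullback h).le ⟨_, rfl⟩))
  exact congrArg j ((j.isEmbedding.isInducing.specializes_iff.1 hys).antisymm (genericPoint_specializes v)).eq

theorem affZero_zero : AffZero.{u} 0 := by
  intro K _ A _ _ e c δ hδ
  let g := Spec.map (CommRingCat.ofHom (algebraMap K A))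
  let eA : A ≃ₐ[K] K := e.trans (MvPolynomial.isEmptyAlgEquiv K (Fin 0))
  have hbij : Function.Bijective (algebraMap K A) := by
    have : (algebraMap K A : K → A) = eA.symm := funext fun a => (eA.symm.commutes a).symm
    rw [this]
    exact eA.symm.bijective
  haveI : IsIso (CommRingCat.ofHom (algebraMap K A)) := (ConcreteCategory.isIso_iff_bijective _).2 hbij
  have hc : ∀ x, δ x = c := fun x => by
    obtain ⟨n, hn, hd⟩ := hδ x
    have h0 : (n : Cardinal) = 0 := hn.symm.trans (CycPushLib.trdeg_preimmersion_left g x)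
    have : n = 0 := by exact_mod_cast h0
    simpa [this] using hd
  refine ⟨fun x => by rw [hc]; omega, fun d hd α hα =>
    CycCommLib.ratEquivZero_of_forall_eq_zero fun x => hα x (by rw [hc]; omega)⟩

theorem affZero_succ {r : ℕ} (IH : AffZero.{u} r) : AffZero.{u} (r + 1) := by
  intro K _ A _ _ e c δ hδ
  let R := MvPolynomial (Fin r) K
  let ψ : A ≃ₐ[K] Polynomial R := e.trans (MvPolynomial.finSuccEquiv K r)
  let ι : R →+* A := (ψ.symm : Polynomial R →+* A).comp Polynomial.C
  let X := Spec (CommRingCat.of A)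
  let Y := Spec (CommRingCat.of R)
  let f : X ⟶ Y := Spec.map (CommRingCat.ofHom ι)
  let gY : Y ⟶ Spec (CommRingCat.of K) := Spec.map (CommRingCat.ofHom (algebraMap K R))
  let gX : X ⟶ Spec (CommRingCat.of K) := Spec.map (CommRingCat.ofHom (algebraMap K A))
  haveI : Algebra.FiniteType K A := Algebra.FiniteType.equiv inferInstance e.symm
  haveI : LocallyOfFiniteType gY :=
    (HasRingHomProperty.Spec_iff (P := @LocallyOfFiniteType)).2 (RingHom.finiteType_algebraMap.2 inferInstance)
  haveI : LocallyOfFiniteType gX :=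
    (HasRingHomProperty.Spec_iff (P := @LocallyOfFiniteType)).2 (RingHom.finiteType_algebraMap.2 inferInstance)
  have hcomp : f ≫ gY = gX := by
    rw [← Spec.map_comp]
    congr 1
    ext a
    exact ψ.symm.commutes a
  haveI : LocallyOfFiniteType f := by
    haveI : LocallyOfFiniteType (f ≫ gY) := by rw [hcomp]; infer_instance
    exact locallyOfFiniteType_of_comp f gY
  obtain ⟨δY, hδY⟩ := exists_deltaCompat gY (fun _ => c)
  have hK := isSetup_field_const (K := CommRingCat.of K) (Field.toIsField K) c
  have hX : Cyc.IsSetup X δ := CycBivLib.isSetup_of_lft gX hK hδ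
  have hY : Cyc.IsSetup Y δY := CycBivLib.isSetup_of_lft gY hK hδY
  have hδf : Cyc.DeltaCompat f δ δY := CycBivLib.deltaCompat_cancel f gY hcomp hδY hδ
  obtain ⟨hYle, hYzero⟩ := IH K R AlgEquiv.refl c δY hδY
  haveI : Flat f := by
    refine (HasRingHomProperty.Spec_iff (P := @Flat)).2 ?_
    show ι.Flat
    exact RingHom.Flat.comp (RingHom.flat_algebraMap_iff.2 (inferInstance : Module.Flat R (Polynomial R)))
      (RingHom.Flat.of_bijective ψ.symm.bijective)
  have hfib : ∀ η : Y, ∃ (κ : Type u) (_ : Field κ) (j : Spec (CommRingCat.of (Polynomial κ)) ⟶ X)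
      (s : Spec (CommRingCat.of (Polynomial κ)) ⟶ Spec (Y.residueField η)),
      IsPullback j s f (Y.fromSpecResidueField η) := by
    intro η
    let χ : CommRingCat.of R ⟶ Y.residueField η := Spec.preimage (Y.fromSpecResidueField η)
    let κ : Type u := Y.residueField η
    letI : Algebra R κ := χ.hom.toAlgebra
    let q : Spec (CommRingCat.of (Polynomial R)) ⟶ X := Spec.map (CommRingCat.ofHom (ψ : A →+* Polynomial R))
    haveI : IsIso (CommRingCat.ofHom (ψ : A →+* Polynomial R)) :=
      (ConcreteCategory.isIso_iff_bijective _).2 ψ.bijective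
    have h0 := (isPullback_SpecMap_of_isPushout _ _ _ _
      (CommRingCat.isPushout_of_isPushout R κ (Polynomial R) (Polynomial κ))).flip
    have h1 : IsPullback q (Spec.map (CommRingCat.ofHom (algebraMap R (Polynomial R)))) f (𝟙 Y) := by
      refine IsPullback.of_horiz_isIso ⟨?_⟩
      rw [Category.comp_id, ← Spec.map_comp]
      refine congrArg Spec.map (CommRingCat.hom_ext (RingHom.ext fun a => ?_))
      exact (ψ.apply_symm_apply (Polynomial.C a))
    have h2 := h0.paste_horiz h1
    rw [Category.comp_id] at h2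
    exact ⟨κ, inferInstance, _, _, (Spec.map_preimage (Y.fromSpecResidueField η)) ▸ h2⟩
  have hr : Cyc.HasRelDim f 1 := hasRelDim_of_fibres f 1 fun η => by
    obtain ⟨κ, _, j, s, h⟩ := hfib η
    refine ⟨_, j, s, h, inferInstance, ?_⟩
    show topologicalKrullDim (PrimeSpectrum (Polynomial κ)) = _
    rw [PrimeSpectrum.topologicalKrullDim_eq_ringKrullDim,
      IsPrincipalIdealRing.ringKrullDim_eq_one _ (Polynomial.not_isField κ), Nat.cast_one]
  refine ⟨fun x => ?_, fun d hd α hα => ?_⟩
  · have := CycLimLib.delta_le f hδf hr x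
    have := hYle (f x)
    omega
  have hfib' : ∀ η : Y, ∃ (F : Scheme.{u}) (j : F ⟶ X) (s : F ⟶ Spec (Y.residueField η)),
      IsPullback j s f (Y.fromSpecResidueField η) ∧ IsIntegral F ∧
      ∀ w : F, δ (j w) < δY η + ((1 : ℕ) : ℤ) →
        Cyc.RatEquivZero (fun v => δ (j v)) (δ (j w)) (pointCycle w 1) := fun η => by
    obtain ⟨κ, _, j, s, h⟩ := hfib η
    refine ⟨_, j, s, h, inferInstance, fun w hw => polynomial_point_zero (fibre_setup hX h) w fun e => ?_⟩
    have h1 := CycLimLib.delta_eq_of_gen f hδf hr (isGen_generic h)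
    rw [← e, show f (j w) = η from (range_of_isPullback h).le ⟨w, rfl⟩] at h1
    omega
  obtain ⟨α₀, β', hα₀, hβ', hrat⟩ := exists_pull_of_fibres hX hY f hr hδf hfib' (d - 1) α
    (by rwa [Nat.cast_one, sub_add_cancel])
  have h0 := hYzero (d - 1) (by omega) α₀ hα₀
  have hzero : Cyc.RatEquiv δY (d - 1) α₀ 0 := by
    show Cyc.RatEquivZero δY (d - 1) (α₀ - 0)
    rwa [sub_zero]
  have h3 := Groth.Agent.S1856.result X Y δ δY hX hY f 1 hr hδf (d - 1) α₀ 0 hα₀ (fun _ _ => rfl) hzero β' 0
    hβ' (funext fun x => by simp [Cyc.pullFun])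
  have h4 := CycCommLib.ratEquiv_trans hX hrat h3
  rwa [Nat.cast_one, sub_add_cancel, Cyc.RatEquiv, sub_zero] at h4

theorem affZero : ∀ r, AffZero.{u} r
  | 0 => affZero_zero
  | r + 1 => affZero_succ (affZero r)

end CycAffLib

end
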