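import Mathlib
import Groth.Prelude.Def_Cyc
import Groth.Agent.CycAffLib.Field

/-!
# Quasi-affine stratifications
-/

set_option autoImplicit false
set_option linter.style.haveILetI false

universe u

open AlgebraicGeometry CategoryTheory

noncomputable section

namespace CycAffLib

open CycBivLib (pointCycle)
open CycSeqLib (Fam)

variable {K : Type u} [Field K] {X : Scheme.{u}} {δ : X → ℤ}

/-- A non-generic point of a quasi-affine stratum is rationally equivalent to a cycle living in the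
boundary of the stratum. -/
theorem exists_fam_stratum (hX : Cyc.IsSetup X δ) {m : ℕ}
    (V : (Spec (CommRingCat.of (MvPolynomial (Fin m) K))).Opens) (e : (V : Scheme.{u}) ⟶ X) [IsImmersion e]
    {ξ x : X} (hξ : ξ ∈ Set.range e) (hcl : Set.range e ⊆ closure {ξ}) (hx : x ∈ Set.range e) (hne : x ≠ ξ) :
    ∃ A : Fam X δ (δ x), (∀ z ∈ Set.range e, (z = x → A.sum z = 1) ∧ (z ≠ x → A.sum z = 0)) ∧
      ∀ z, A.sum z ≠ 0 → z ∈ closure {ξ} := by
  classical
  haveI := hX.1
  let A₀ := Spec (CommRingCat.of (MvPolynomial (Fin m) K))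
  let g := Spec.map (CommRingCat.ofHom (algebraMap K (MvPolynomial (Fin m) K)))
  haveI : LocallyOfFiniteType g :=
    (HasRingHomProperty.Spec_iff (P := @LocallyOfFiniteType)).2 (RingHom.finiteType_algebraMap.2 inferInstance)
  obtain ⟨δA, hδA⟩ := exists_deltaCompat g (fun _ => (0 : ℤ))
  have hA : Cyc.IsSetup A₀ δA :=
    CycBivLib.isSetup_of_lft g (isSetup_field_const (K := CommRingCat.of K) (Field.toIsField K) 0) hδA
  obtain ⟨hle, hzero⟩ := affZero m K (MvPolynomial (Fin m) K) AlgEquiv.refl 0 δA hδA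
  obtain ⟨hV₁, -⟩ := CycPushLib.setup_of_closedImmersion V.ι hA
  obtain ⟨hV₂, -⟩ := CycPushLib.setup_of_closedImmersion e hX
  haveI := hV₁.1
  obtain ⟨a, rfl⟩ := hξ
  obtain ⟨v, rfl⟩ := hx
  let g₀ : A₀ := genericPoint ↥A₀
  obtain ⟨w₀, hw₀⟩ : g₀ ∈ Set.range V.ι :=
    V.range_ι.ge ((genericPoint_specializes (V.ι a)).mem_open V.isOpen (V.range_ι.le ⟨a, rfl⟩))
  have hgen : ∀ w : ↥(V : Scheme.{u}), w₀ ⤳ w := fun w =>
    V.ι.isEmbedding.isInducing.specializes_iff.1 (hw₀ ▸ genericPoint_specializes (V.ι w))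
  have ha : e w₀ = e a := (((hgen a).map e.continuous).antisymm
    (specializes_iff_mem_closure.2 (hcl ⟨w₀, rfl⟩))).eq
  let c : ℤ := δA (V.ι w₀) - δ (e w₀)
  have hc : ∀ w, δA (V.ι w) = δ (e w) + c := fun w => by
    obtain ⟨n, hn⟩ := EquidimLib.exists_dimBetween_eq_nat (hgen w)
    have h1 : δA (V.ι w₀) = δA (V.ι w) + n := CycLimLib.delta_eq_add hV₁ (hgen w) hn
    have h2 : δ (e w₀) = δ (e w) + n := CycLimLib.delta_eq_add hV₂ (hgen w) hn
    omega
  have hlt : δA (V.ι v) < (0 : ℤ) + m := by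
    have h1 : δA (V.ι v) < δA (V.ι w₀) := (hV₁.2.2 w₀ v (hgen v) fun h => hne (h ▸ ha)).1
    have := hle (V.ι w₀)
    omega
  obtain ⟨B, hB⟩ := Fam.exists_of_ratEquivZero (hzero _ hlt (pointCycle (V.ι v) 1)
    fun z hz => CycBivLib.pointCycle_ne 1 fun h => hz (by rw [h]))
  let J := {i : B.I // B.ξ i ∈ V}
  have hJ : ∀ i : J, ∃ ζ, V.ι ζ = B.ξ i.1 := fun i => V.range_ι.ge i.2
  choose ζ hζ using hJ
  choose G hG using fun i : J =>
    (CycPushLib.residueFieldMap_bijective e (ζ i)).2 (CycDivLib.gpull V.ι (hζ i) (B.f i.1))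
  have hG0 : ∀ i, G i ≠ 0 := fun i h0 => B.ne_zero i.1 ((_root_.map_eq_zero _).1
    ((hG i).symm.trans (by rw [h0, map_zero])))
  have hfin : Finite B.I := by
    choose U hUo hU hUf using B.locFin
    obtain ⟨t, ht⟩ := isCompact_univ.elim_finite_subcover U hUo fun v _ => Set.mem_iUnion.2 ⟨v, hU v⟩
    refine Set.finite_univ_iff.1 ((t.finite_toSet.biUnion fun v _ => hUf v).subset fun i _ => ?_)
    obtain ⟨v, hv, hiv⟩ := Set.mem_iUnion₂.1 (ht (Set.mem_univ (B.ξ i)))
    exact Set.mem_biUnion hv ⟨B.ξ i, subset_closure rfl, hiv⟩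
  let A : Fam X δ (δ (e v)) :=
    { I := J
      ξ := fun i => e (ζ i)
      f := G
      delta := fun i => by
        have h1 := hc (ζ i)
        rw [hζ, B.delta, hc v] at h1
        omega
      ne_zero := hG0
      locFin := fun z => ⟨Set.univ, isOpen_univ, trivial, Set.toFinite _⟩ }
  have hsum : ∀ w, A.sum (e w) = pointCycle (V.ι v) 1 (V.ι w) := fun w => by
    rw [hB]
    let F : B.I → ℤ := fun i => Cyc.divFun δA (B.ξ i) (B.f i) (V.ι w)
    have hF : Function.support F ⊆ {i | B.ξ i ∈ V} := fun i hi => by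
      show B.ξ i ∈ (V : Set ↥A₀)
      refine Specializes.mem_open (x := B.ξ i) ?_ V.isOpen (V.range_ι.le ⟨w, rfl⟩)
      exact by_contra fun hn => hi (CycC1Lib.divFun_eq_zero_of_not_specializes hn _)
    show _ = ∑ᶠ i, F i
    rw [← finsum_mem_univ F, ← finsum_mem_inter_support F Set.univ, Set.univ_inter,
      finsum_mem_inter_support_eq' F (Function.support F) {i | B.ξ i ∈ V} fun i hi =>
        ⟨fun _ => hF hi, fun _ => hi⟩, ← finsum_set_coe_eq_finsum_mem]
    refine finsum_congr fun i => ?_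
    show Cyc.divFun δ (e (ζ i)) (G i) (e w) = Cyc.divFun δA (B.ξ i.1) (B.f i.1) (V.ι w)
    rw [CycPushLib.divFun_closedImmersion e hX rfl (hG0 i) w,
      CycPushLib.divFun_closedImmersion V.ι hA (hζ i) (B.ne_zero i.1) w, CycPushLib.gpull_rfl, hG i]
    simp only [Cyc.divFun]
    exact dite_congr (propext (and_congr_right fun _ => by rw [hc, hc]; omega)) (fun _ => rfl) fun _ => rfl
  refine ⟨A, ?_, fun z hz => ?_⟩
  · rintro _ ⟨w, rfl⟩
    refine ⟨fun h => (hsum w).trans ?_, fun h => (hsum w).trans ?_⟩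
    · rw [e.isEmbedding.injective h, CycBivLib.pointCycle_self]
    · exact CycBivLib.pointCycle_ne 1 fun h' => h (congrArg e (V.ι.isEmbedding.injective h'))
  · obtain ⟨i, hi⟩ : ∃ i, Cyc.divFun δ (A.ξ i) (A.f i) z ≠ 0 := by
      by_contra hc'
      push Not at hc'
      exact hz (finsum_eq_zero_of_forall_eq_zero hc')
    have hs : e (ζ i) ⤳ z := by_contra fun hn => hi (CycC1Lib.divFun_eq_zero_of_not_specializes hn _)
    exact hs.mem_closed isClosed_closure (hcl ⟨ζ i, rfl⟩)

/-- On a scheme stratified by quasi-affine strata, cycles move to the generic points of the strata. -/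
theorem exists_supported_generic (hX : Cyc.IsSetup X δ) [CompactSpace X] {ι : Type} (U : ι → Set X) (ξ : ι → X)
    (hcov : ∀ x : X, ∃ i, x ∈ U i) (hdisj : ∀ i j, i ≠ j → Disjoint (U i) (U j))
    (hgen : ∀ i, ξ i ∈ U i ∧ U i ⊆ closure {ξ i})
    (hstrat : ∀ i j, (closure (U i) ∩ U j).Nonempty → U j ⊆ closure (U i))
    (hqa : ∀ i, ∃ (m : ℕ) (V : (Spec (CommRingCat.of (MvPolynomial (Fin m) K))).Opens)
      (e : (V : Scheme.{u}) ⟶ X), IsImmersion e ∧ Set.range e = U i)
    (hnonneg : ∀ x, 0 ≤ δ x) (k : ℤ) (α : AlgebraicCycle X ℤ) (hα : α ∈ Cyc.Zk X δ k) :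
    ∃ β : AlgebraicCycle X ℤ, β ∈ Cyc.Zk X δ k ∧ (∀ x : X, β x ≠ 0 → ∃ i, x = ξ i) ∧
      Cyc.RatEquiv δ k α β := by
  classical
  have huniq : ∀ {x i j}, x ∈ U i → x ∈ U j → i = j := fun {x i j} hi hj =>
    by_contra fun h => Set.disjoint_left.1 (hdisj i j h) hi hj
  have hclU : ∀ i, closure ({ξ i} : Set X) = closure (U i) := fun i => Set.Subset.antisymm
    (closure_mono (Set.singleton_subset_iff.2 (hgen i).1)) (closure_minimal (hgen i).2 isClosed_closure)
  suffices ∀ (N : ℕ) (α : AlgebraicCycle X ℤ), α ∈ Cyc.Zk X δ k →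
      (∀ x i, α x ≠ 0 → x ∈ U i → x ≠ ξ i → δ (ξ i) < N) →
      ∃ β : AlgebraicCycle X ℤ, β ∈ Cyc.Zk X δ k ∧ (∀ x : X, β x ≠ 0 → ∃ i, x = ξ i) ∧
        Cyc.RatEquiv δ k α β by
    have hfin : (Function.support α).Finite := CycLimLib.support_finite α
    obtain ⟨M, hM⟩ := (hfin.image fun x => δ (ξ (hcov x).choose)).bddAbove
    refine this (M + 1).toNat α hα fun x i hx hi _ => ?_
    have := hM ⟨x, hx, rfl⟩
    simp only at this
    rw [huniq (hcov x).choose_spec hi] at this
    have := hnonneg (ξ i)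
    omega
  intro N
  induction N with
  | zero =>
    intro α hα hlow
    refine ⟨α, hα, fun x hx => ?_, CycCommLib.ratEquiv_refl α⟩
    obtain ⟨i, hi⟩ := hcov x
    refine ⟨i, by_contra fun hne => ?_⟩
    have := hlow x i hx hi hne
    have := hnonneg (ξ i)
    omega
  | succ N IH =>
    intro α hα hlow
    let S : Set X := {x | α x ≠ 0 ∧ ∃ i, x ∈ U i ∧ x ≠ ξ i ∧ δ (ξ i) = N}
    have hSfin : S.Finite := (CycLimLib.support_finite α).subset fun x hx => hx.1
    have hA : ∀ x : S, ∃ A : Fam X δ k, ∀ z j, z ∈ U j → z ≠ ξ j → (N : ℤ) ≤ δ (ξ j) →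
        (z = x.1 → A.sum z = 1) ∧ (z ≠ x.1 → A.sum z = 0) := by
      rintro ⟨x, hx, i, hi, hne, hN⟩
      obtain ⟨m, V, e, he, hr⟩ := hqa i
      obtain ⟨A, hA1, hA2⟩ := exists_fam_stratum hX V e (hr ▸ (hgen i).1) (hr ▸ (hgen i).2) (hr ▸ hi) hne
      obtain rfl : δ x = k := by_contra fun h => hx (hα x h)
      refine ⟨A, fun z j hz hzne hj => ?_⟩
      by_cases hij : j = i
      · subst hij
        exact hA1 z (hr ▸ hz)
      have h0 : A.sum z = 0 := by
        by_contra h
        have hzc : z ∈ closure (U i) := hclU i ▸ hA2 z h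
        have h1 : ξ i ⤳ ξ j :=
          specializes_iff_mem_closure.2 (hclU i ▸ hstrat i j ⟨z, hzc, hz⟩ (hgen j).1)
        have h2 := (hX.2.2 _ _ h1 fun hh => hij (huniq (hgen j).1 (hh ▸ (hgen i).1))).1
        omega
      exact ⟨fun h => absurd (huniq hz (h ▸ hi)) hij, fun _ => h0⟩
    choose A hA using hA
    have hcomb : ∀ T : Finset S, ∃ γ : AlgebraicCycle X ℤ, γ ∈ Cyc.Zk X δ k ∧ Cyc.RatEquivZero δ k γ ∧
        ∀ z, γ z = ∑ x ∈ T, α x.1 * (A x).sum z := by
      intro T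
      induction T using Finset.induction_on with
      | empty => exact ⟨0, fun _ _ => rfl, CycCommLib.ratEquivZero_of_forall_eq_zero fun _ => rfl, fun z => by simp⟩
      | insert x T hxT ih =>
        obtain ⟨γ, hγ, hγ0, hγs⟩ := ih
        let B : Fam X δ k := ⟨(A x).I, (A x).ξ, fun i => (A x).f i ^ α x.1, (A x).delta,
          fun i => zpow_ne_zero _ ((A x).ne_zero i), (A x).locFin⟩
        have hBs : ∀ z, B.sum z = α x.1 * (A x).sum z := fun z => by
          have hfi : (Function.support fun i => Cyc.divFun δ ((A x).ξ i) ((A x).f i) z).Finite :=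
            CycCommLib.divFun_finite_index hX (A x).ξ (A x).f (A x).locFin z
          show ∑ᶠ i, Cyc.divFun δ ((A x).ξ i) ((A x).f i ^ α x.1) z = _
          rw [CycSeqLib.Fam.sum, mul_finsum]
          exact finsum_congr fun i => CycC1Lib.divFun_zpow hX ((A x).ne_zero i) _ _
        refine ⟨B.cyc hX + γ, fun z hz => ?_, CycCommLib.ratEquivZero_add hX (B.ratEquivZero (α := B.cyc hX)
          fun _ => rfl) hγ0 fun _ => rfl, fun z => ?_⟩
        · show B.sum z + γ z = 0
          rw [hγ z hz, by_contra fun h => hz (B.sum_ne_zero_delta h), add_zero]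
        · show B.sum z + γ z = _
          rw [Finset.sum_insert hxT, hBs, hγs]
    haveI := hSfin.fintype
    obtain ⟨γ, hγ, hγ0, hγs⟩ := hcomb Finset.univ
    obtain ⟨β, hβ, hβg, hβr⟩ := IH (α - γ) (fun z hz => by
        show α z - γ z = 0
        rw [hα z hz, hγ z hz, sub_zero]) fun z j hz hj hne => by
      by_contra hge
      push Not at hge
      refine hz ?_
      show α z - γ z = 0
      rw [hγs]
      by_cases hzS : z ∈ S
      · rw [Finset.sum_eq_single (⟨z, hzS⟩ : S)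
          (fun x _ hx => by rw [((hA x) z j hj hne hge).2 fun h => hx (Subtype.ext h.symm), mul_zero])
          (fun h => absurd (Finset.mem_univ _) h), ((hA _) z j hj hne hge).1 rfl]
        ring
      · rw [Finset.sum_eq_zero fun x _ => by
          rw [((hA x) z j hj hne hge).2 fun h => hzS (h ▸ x.2), mul_zero], sub_zero]
        by_contra hα0
        have h3 := hlow z j hα0 hj hne
        exact hzS ⟨hα0, j, hj, hne, by omega⟩
    refine ⟨β, hβ, hβg, CycCommLib.ratEquiv_trans hX ?_ hβr⟩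
    exact (congrArg (Cyc.RatEquivZero δ k) (sub_sub_cancel α γ)).mpr hγ0

end CycAffLib

end
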